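import Groth.Agent.L27.Colim.Etale
import Groth.Agent.S0503
import Groth.Agent.L23.CoprodFinite
import Mathlib.AlgebraicGeometry.Morphisms.Finite
import Mathlib.AlgebraicGeometry.Morphisms.UniversallyOpen
import Mathlib.AlgebraicGeometry.Morphisms.QuasiFinite
import Mathlib.RingTheory.Etale.QuasiFinite

/-! # Finite etale schemes over a henselian local ring form a good class of objects of the small etale site -/

universe u

open CategoryTheory CategoryTheory.Limits AlgebraicGeometry Opposite

set_option autoImplicit false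
set_option backward.isDefEq.respectTransparency.types false
set_option linter.style.haveILetI false

noncomputable section

namespace Groth.L27.GmHensel

open Groth.L27.Colim (Tup IsCov Good isCov_iff)

/-- Finite objects. -/
def Fin' {X : Scheme.{u}} (U : X.Etale) : Prop := IsFinite U.hom

theorem isFinite_left {X : Scheme.{u}} {U V : X.Etale} (g : U ⟶ V) (hU : Fin' U) (hV : Fin' V) :
    IsFinite g.left := by
  haveI : IsFinite U.hom := hU
  haveI : IsFinite V.hom := hV
  haveI : IsFinite (g.left ≫ V.hom) := by rw [MorphismProperty.Over.w g]; exact hU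
  exact IsFinite.of_comp g.left V.hom

theorem exists_pb_fin {X : Scheme.{u}} {A B K : X.Etale} (f : A ⟶ K) (g : B ⟶ K) (hA : Fin' A) (hB : Fin' B) (hK : Fin' K) :
    ∃ (P : X.Etale) (a : P ⟶ A) (b : P ⟶ B), Fin' P ∧ a ≫ f = b ≫ g ∧
      ∀ (V : X.Etale) (u : V ⟶ A) (v : V ⟶ B), u ≫ f = v ≫ g → ∃! l : V ⟶ P, l ≫ a = u ∧ l ≫ b = v := by
  haveI : AlgebraicGeometry.Etale A.hom := A.prop
  haveI : AlgebraicGeometry.Etale g.left := EtSite.etale_left g
  haveI : IsFinite A.hom := hA
  haveI := isFinite_left g hB hK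
  haveI : IsFinite (pullback.fst f.left g.left) :=
    MorphismProperty.pullback_fst (P := @IsFinite) f.left g.left ‹_›
  refine ⟨Scheme.Etale.mk (pullback.fst f.left g.left ≫ A.hom),
    MorphismProperty.Over.homMk (pullback.fst f.left g.left) rfl,
    MorphismProperty.Over.homMk (pullback.snd f.left g.left) ?_, inferInstanceAs (IsFinite (pullback.fst f.left g.left ≫ A.hom)),
    MorphismProperty.Over.Hom.ext pullback.condition, fun V u v e => ?_⟩
  · show pullback.snd f.left g.left ≫ B.hom = pullback.fst f.left g.left ≫ A.hom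
    rw [← MorphismProperty.Over.w f, ← MorphismProperty.Over.w g, pullback.condition_assoc]
  · have e' : u.left ≫ f.left = v.left ≫ g.left := congrArg (fun m => m.left) e
    refine ⟨MorphismProperty.Over.homMk (pullback.lift u.left v.left e')
      ((Category.assoc _ _ _).symm.trans ((congrArg (· ≫ A.hom) (pullback.lift_fst _ _ _)).trans
        (MorphismProperty.Over.w u))),
      ⟨MorphismProperty.Over.Hom.ext (pullback.lift_fst _ _ _), MorphismProperty.Over.Hom.ext (pullback.lift_snd _ _ _)⟩,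
      fun l hl => MorphismProperty.Over.Hom.ext (pullback.hom_ext ?_ ?_)⟩
    · exact (congrArg (fun m : V ⟶ A => m.left) hl.1).trans (pullback.lift_fst u.left v.left e').symm
    · exact (congrArg (fun m : V ⟶ B => m.left) hl.2).trans (pullback.lift_snd u.left v.left e').symm

theorem exists_tup_fin {X : Scheme.{u}} {K L : X.Etale} (p : L ⟶ K) (hK : Fin' K) (hL : Fin' L) (n : ℕ) :
    ∃ (W : X.Etale) (t : Tup p n W), Fin' W ∧ ∀ (V : X.Etale) (t' : Tup p n V), ∃! g : V ⟶ W, t.res g = t' := by
  induction n with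
  | zero =>
    refine ⟨L, ⟨fun _ => 𝟙 L, fun _ _ => rfl⟩, hL, fun V t' => ⟨t'.1 0, ?_, fun g hg => ?_⟩⟩
    · refine Subtype.ext (funext fun k => ?_)
      rw [show k = 0 from Subsingleton.elim (α := Fin 1) k 0]
      exact Category.comp_id _
    · exact (Category.comp_id g).symm.trans (congrFun (congrArg Subtype.val hg) 0)
  | succ n ih =>
    obtain ⟨W, t, hW, ht⟩ := ih
    obtain ⟨P, a, b, hP, hab, hlift⟩ := exists_pb_fin p (t.1 0 ≫ p) hL hW hK
    refine ⟨P, ⟨Fin.cons a (fun k => b ≫ t.1 k), fun k l => ?_⟩, hP, fun V t' => ?_⟩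
    · have key : ∀ k : Fin (n + 1 + 1), (Fin.cons (α := fun _ => P ⟶ L) a (fun k => b ≫ t.1 k) k) ≫ p = a ≫ p :=
        fun k => by
          refine Fin.cases ?_ (fun i => ?_) k
          · rw [Fin.cons_zero]
          · rw [Fin.cons_succ, Category.assoc, t.2 i 0, hab]
      exact (key k).trans (key l).symm
    · obtain ⟨g, hg, hgu⟩ := ht V ⟨fun k => t'.1 k.succ, fun k l => t'.2 _ _⟩
      have hgk : ∀ k, g ≫ t.1 k = t'.1 k.succ := fun k => congrFun (congrArg Subtype.val hg) k
      obtain ⟨l, ⟨hla, hlb⟩, hlu⟩ := hlift V (t'.1 0) g (by rw [← Category.assoc, hgk, t'.2 0 (Fin.succ 0)])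
      refine ⟨l, Subtype.ext (funext fun k => ?_), fun l' hl' => ?_⟩
      · show l ≫ _ = _
        refine Fin.cases ?_ (fun i => ?_) k
        · exact hla
        · exact (Category.assoc l b (t.1 i)).symm.trans ((congrArg (· ≫ t.1 i) hlb).trans (hgk i))
      · have h : ∀ k, l' ≫ Fin.cons (α := fun _ => P ⟶ L) a (fun k => b ≫ t.1 k) k = t'.1 k :=
          fun k => congrFun (congrArg Subtype.val hl') k
        refine hlu l' ⟨by simpa using h 0, hgu _ (Subtype.ext (funext fun k => ?_))⟩
        have := h k.succ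
        rw [Fin.cons_succ, ← Category.assoc] at this
        exact this

variable (A : Type u) [CommRing A] [HenselianLocalRing A]

/-- An etale scheme with a point over the closed point receives a finite etale scheme through that point. -/
theorem exists_finite_etale_nhd (U : (Spec (CommRingCat.of A)).Etale) (x : U.left)
    (hx : U.hom x = IsLocalRing.closedPoint A) :
    ∃ (V : (Spec (CommRingCat.of A)).Etale) (d : V ⟶ U) (v : V.left), IsFinite V.hom ∧ d.left v = x := by
  haveI : AlgebraicGeometry.Etale U.hom := U.prop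
  obtain ⟨_, ⟨W, hW, rfl⟩, hxW, -⟩ := U.left.isBasis_affineOpens.exists_subset_of_mem_open
    (Set.mem_univ x) isOpen_univ
  let j : Spec Γ(U.left, W) ⟶ U.left := hW.fromSpec
  obtain ⟨q, hq⟩ : x ∈ Set.range j := hW.range_fromSpec.symm ▸ hxW
  obtain ⟨φ, hφ⟩ : ∃ φ : CommRingCat.of A ⟶ Γ(U.left, W), Spec.map φ = j ≫ U.hom := Spec.map_surjective _
  letI : Algebra A Γ(U.left, W) := φ.hom.toAlgebra
  have het : φ.hom.Etale :=
    (HasRingHomProperty.Spec_iff (P := @AlgebraicGeometry.Etale)).1 (hφ ▸ inferInstance)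
  haveI : Algebra.Etale A Γ(U.left, W) := het
  obtain ⟨e, he, hfin, htop⟩ := Groth.Agent.S0503.result A Γ(U.left, W)
  let T := Γ(U.left, W) ⧸ Ideal.span ({1 - e} : Set Γ(U.left, W))
  have hqmax : q.asIdeal.comap (algebraMap A Γ(U.left, W)) = IsLocalRing.maximalIdeal A := by
    have h1 : (j ≫ U.hom) q = IsLocalRing.closedPoint A := by rw [Scheme.Hom.comp_apply, hq, hx]
    rw [← hφ] at h1
    exact congrArg PrimeSpectrum.asIdeal h1
  have h1e : 1 - e ∈ q.asIdeal := by
    refine (q.isPrime.mem_or_mem (show e * (1 - e) ∈ q.asIdeal by rw [he.mul_one_sub_self]; exact q.asIdeal.zero_mem)).resolve_left fun hmem => ?_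
    have hle : Ideal.span ({e} : Set Γ(U.left, W)) ≤ q.asIdeal := (Ideal.span_singleton_le_iff_mem _).2 hmem
    have hmap : Ideal.map (algebraMap A Γ(U.left, W)) (IsLocalRing.maximalIdeal A) ≤ q.asIdeal :=
      Ideal.map_le_iff_le_comap.2 hqmax.ge
    refine q.isPrime.ne_top ?_
    have : Ideal.map (Ideal.Quotient.mk (Ideal.span ({e} : Set Γ(U.left, W)))) q.asIdeal = ⊤ := by
      refine top_le_iff.1 (htop.ge.trans ?_)
      rw [IsScalarTower.algebraMap_eq A Γ(U.left, W), ← Ideal.map_map]
      exact Ideal.map_mono hmap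
    have h3 := congrArg (Ideal.comap (Ideal.Quotient.mk (Ideal.span ({e} : Set Γ(U.left, W))))) this
    rwa [Ideal.comap_map_of_surjective _ Ideal.Quotient.mk_surjective, ← RingHom.ker_eq_comap_bot, Ideal.mk_ker,
      Ideal.comap_top, sup_eq_left.2 hle] at h3
  haveI : IsLocalization.Away e T := IsLocalization.away_of_isIdempotentElem he Ideal.mk_ker Ideal.Quotient.mk_surjective
  let π : Γ(U.left, W) ⟶ CommRingCat.of T := CommRingCat.ofHom (algebraMap Γ(U.left, W) T)
  haveI : IsOpenImmersion (Spec.map π) := IsOpenImmersion.of_isLocalization e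
  let V : (Spec (CommRingCat.of A)).Etale :=
    @Scheme.Etale.mk _ (Spec (CommRingCat.of T)) ((Spec.map π ≫ j) ≫ U.hom) inferInstance
  have hle : Ideal.span ({1 - e} : Set Γ(U.left, W)) ≤ q.asIdeal := (Ideal.span_singleton_le_iff_mem _).2 h1e
  obtain ⟨p, hp⟩ : q ∈ Set.range (Spec.map π) := by
    have hker : RingHom.ker (algebraMap Γ(U.left, W) T) ≤ q.asIdeal := (Ideal.mk_ker.trans_le hle :)
    exact (Set.ext_iff.1 (range_comap_of_surjective _ (algebraMap Γ(U.left, W) T) Ideal.Quotient.mk_surjective) q).2 hker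
  refine ⟨V, MorphismProperty.Over.homMk (Spec.map π ≫ j) rfl, p, ?_, ?_⟩
  · show IsFinite ((Spec.map π ≫ j) ≫ U.hom)
    rw [Category.assoc, ← hφ, ← Spec.map_comp, IsFinite.SpecMap_iff]
    show RingHom.Finite ((algebraMap Γ(U.left, W) T).comp (algebraMap A Γ(U.left, W)))
    rw [← IsScalarTower.algebraMap_eq]
    exact RingHom.finite_algebraMap.2 hfin
  · show (Spec.map π ≫ j) p = x
    rw [Scheme.Hom.comp_apply, hp, hq]

theorem exists_finite_cover {K : (Spec (CommRingCat.of A)).Etale} (hK : Fin' K) (R : Sieve K)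
    (hR : R ∈ (Spec (CommRingCat.of A)).smallEtaleTopology K) :
    ∃ (L : (Spec (CommRingCat.of A)).Etale) (p : L ⟶ K), Fin' L ∧ IsCov (Spec (CommRingCat.of A)).smallEtaleTopology p ∧
      ∃ (ι : Type u) (_ : Finite ι) (Y : ι → (Spec (CommRingCat.of A)).Etale) (q : ∀ i, Y i ⟶ L), (∀ i, Fin' (Y i)) ∧
        (∀ i, R.arrows (q i ≫ p)) ∧ ∀ F : Sheaf (Spec (CommRingCat.of A)).smallEtaleTopology AddCommGrpCat.{u + 1},
          Function.Bijective fun (x : F.obj.obj (op L)) (i : ι) => F.obj.map (q i).op x := by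
  haveI : IsFinite K.hom := hK
  haveI : AlgebraicGeometry.Etale K.hom := K.prop
  let σ : Type u := ↥(K.hom ⁻¹' {IsLocalRing.closedPoint A})
  haveI : Finite σ := (IsFinite.finite_preimage_singleton K.hom (IsLocalRing.closedPoint A)).to_subtype
  choose V g v hg hv using (EtSite.mem_topology_iff R).1 hR
  have hclosed : ∀ i : σ, (V i.1).hom (v i.1) = IsLocalRing.closedPoint A := fun i => by
    rw [← MorphismProperty.Over.w (g i.1)]
    exact (Scheme.Hom.comp_apply _ _ _).trans ((congrArg K.hom (hv i.1)).trans i.2)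
  choose W d w hW hw using fun i : σ => exists_finite_etale_nhd A (V i.1) (v i.1) (hclosed i)
  let Z : σ → Scheme.{u} := fun i => (W i).left
  let f : ∀ i, Z i ⟶ K.left := fun i => (d i ≫ g i.1).left
  haveI : ∀ i, AlgebraicGeometry.Etale (f i) := fun i => EtSite.etale_left (d i ≫ g i.1)
  haveI : AlgebraicGeometry.Etale (Sigma.desc f) :=
    IsZariskiLocalAtSource.sigmaDesc (P := EtCoh.etaleMP.{u}) fun i => inferInstance
  haveI : ∀ i, IsFinite (f i) := fun i => isFinite_left (d i ≫ g i.1) (hW i) hK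
  haveI : IsAffine K.left := @isAffine_of_isAffineHom _ _ K.hom _ (inferInstanceAs (IsAffine (Spec (CommRingCat.of A))))
  haveI : ∀ i, IsAffine (Z i) := fun i => isAffine_of_isAffineHom (f i)
  haveI : IsFinite (Sigma.desc f) := Groth.L23.Coprod.isFinite_sigmaDesc f
  let L : (Spec (CommRingCat.of A)).Etale := Scheme.Etale.mk (Sigma.desc f ≫ K.hom)
  let p : L ⟶ K := MorphismProperty.Over.homMk (Sigma.desc f) rfl
  let Y : σ → (Spec (CommRingCat.of A)).Etale := fun i =>
    haveI : AlgebraicGeometry.Etale (Sigma.ι Z i) := inferInstance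
    Scheme.Etale.mk (Sigma.ι Z i ≫ Sigma.desc f ≫ K.hom)
  let q : ∀ i, Y i ⟶ L := fun i => MorphismProperty.Over.homMk (Sigma.ι Z i) rfl
  have hY : ∀ i, (Sigma.ι Z i ≫ Sigma.desc f ≫ K.hom) = (W i).hom := fun i => by
    rw [← Category.assoc, Sigma.ι_desc]
    exact MorphismProperty.Over.w (d i ≫ g i.1)
  refine ⟨L, p, inferInstanceAs (IsFinite (Sigma.desc f ≫ K.hom)), (isCov_iff p).2 fun x => ?_, σ, inferInstance, Y, q,
    fun i => (show IsFinite (Sigma.ι Z i ≫ Sigma.desc f ≫ K.hom) by rw [hY i]; exact hW i), fun i => ?_, fun F => ?_⟩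
  · obtain ⟨y, hxy, hy⟩ : ∃ y ∈ closure ({x} : Set K.left), K.hom y = IsLocalRing.closedPoint A :=
      (IsLocalRing.specializes_closedPoint (K.hom x)).mem_closed (K.hom.isClosedMap _ isClosed_closure)
        ⟨x, subset_closure rfl, rfl⟩
    have hmem : y ∈ Set.range (Sigma.desc f) := by
      refine ⟨Sigma.ι Z ⟨y, hy⟩ (w ⟨y, hy⟩), ?_⟩
      refine (Scheme.Hom.comp_apply (Sigma.ι Z ⟨y, hy⟩) (Sigma.desc f) _).symm.trans ?_
      rw [Sigma.ι_desc]
      exact (Scheme.Hom.comp_apply (d ⟨y, hy⟩).left (g y).left (w ⟨y, hy⟩)).trans ((congrArg (g y).left (hw ⟨y, hy⟩)).trans (hv y))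
    exact (specializes_iff_mem_closure.2 hxy).mem_open (Sigma.desc f).isOpenMap.isOpen_range hmem
  · let m : Y i ⟶ V i.1 := MorphismProperty.Over.homMk (d i).left
      ((MorphismProperty.Over.w (d i)).trans (hY i).symm)
    rw [show q i ≫ p = m ≫ g i.1 from MorphismProperty.Over.Hom.ext (Sigma.ι_desc f i)]
    exact R.downward_closed (hg i.1) m
  · let P : Presieve L := Presieve.ofArrows Y q
    have hP : Sieve.generate P ∈ (Spec (CommRingCat.of A)).smallEtaleTopology L := (EtSite.mem_topology_iff _).2 fun x => by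
      obtain ⟨i, z, hz⟩ : ∃ i z, Sigma.ι Z i z = x := (sigmaOpenCover Z).exists_eq x
      exact ⟨Y i, q i, z, Sieve.le_generate P _ _ (Presieve.ofArrows.mk i), hz⟩
    have hsheaf := ((isSheaf_iff_isSheaf_of_type _ _).1
      ((Presheaf.isSheaf_iff_isSheaf_forget (Spec (CommRingCat.of A)).smallEtaleTopology F.obj (forget AddCommGrpCat.{u + 1})).1 F.property))
      _ hP
    rw [← Presieve.isSheafFor_iff_generate, Presieve.isSheafFor_arrows_iff] at hsheaf
    refine ⟨fun x y h => ?_, fun z => ?_⟩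
    · refine EtSite.ext_of_locally F fun l => ?_
      obtain ⟨i, w, hw⟩ : ∃ i w, Sigma.ι Z i w = l := (sigmaOpenCover Z).exists_eq l
      exact ⟨Y i, q i, w, hw, congrFun h i⟩
    · obtain ⟨x, hx, -⟩ := hsheaf z fun i j Q a b e => by
        by_cases hij : i = j
        · subst hij
          rw [show a = b from MorphismProperty.Over.Hom.ext
            ((cancel_mono (Sigma.ι Z i)).1 (congrArg (fun m : Q ⟶ L => m.left) e))]
        · refine EtSite.ext_of_locally F fun w => ?_
          haveI := isEmpty_of_commSq_sigmaι_of_ne (g := Z) (⟨congrArg (fun m : Q ⟶ L => m.left) e⟩ :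
            CommSq a.left b.left (Sigma.ι Z i) (Sigma.ι Z j)) hij
          exact isEmptyElim w
      exact ⟨x, funext hx⟩

/-- Finite etale schemes form a good class. -/
theorem good : Good (Spec (CommRingCat.of A)).smallEtaleTopology (Fin' (X := Spec (CommRingCat.of A))) where
  tup p hK hL _ n := exists_tup_fin p hK hL n
  refine_cover _ hK R hR := exists_finite_cover A hK R hR

end Groth.L27.GmHensel
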