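import Groth.Agent.L28.Divisor.Units
import Groth.Agent.L27.Colim.Acyclic
import Mathlib.AlgebraicGeometry.Morphisms.ClosedImmersion
import Mathlib.AlgebraicGeometry.Morphisms.Affine

/-!
# The restriction map of multiplicative groups to a closed subscheme of an affine scheme and its kernel
-/

set_option autoImplicit false
set_option linter.style.haveILetI false
set_option linter.unusedSectionVars false
set_option backward.isDefEq.respectTransparency.types false

universe u

open CategoryTheory CategoryTheory.Limits AlgebraicGeometry Opposite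

noncomputable section

namespace Groth.L27.GmHensel

open Groth.L28.Divisor (mkU val val_inj)

variable {R : Type u} [CommRing R] (I : Ideal R)

/-- The closed immersion. -/
abbrev clI : Spec (CommRingCat.of (R ⧸ I)) ⟶ Spec (CommRingCat.of R) :=
  Spec.map (CommRingCat.ofHom (Ideal.Quotient.mk I))

/-- Restriction of functions. -/
abbrev φI (W : (Spec (CommRingCat.of R)).Etale) : Γ(W.left, ⊤) →+* Γ(pullback W.hom (clI I), ⊤) :=
  (pullback.fst W.hom (clI I)).appTop.hom

/-- The structure map on functions. -/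
abbrev ψW (W : (Spec (CommRingCat.of R)).Etale) : R →+* Γ(W.left, ⊤) :=
  W.hom.appTop.hom.comp (Scheme.ΓSpecIso (CommRingCat.of R)).inv.hom

theorem surjective_φI (W : (Spec (CommRingCat.of R)).Etale) [IsAffine W.left] :
    Function.Surjective (φI I W) := by
  haveI : IsClosedImmersion (clI I) := IsClosedImmersion.spec_of_surjective _ Ideal.Quotient.mk_surjective
  haveI : IsClosedImmersion (pullback.fst W.hom (clI I)) :=
    MorphismProperty.pullback_fst (P := @IsClosedImmersion) W.hom (clI I) inferInstance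
  haveI : IsAffine ((𝟭 Scheme).obj W.left) := ‹IsAffine W.left›
  exact (IsClosedImmersion.isAffine_surjective_of_isAffine (pullback.fst W.hom (clI I))).2

theorem φI_eq_zero_iff (W : (Spec (CommRingCat.of R)).Etale) [IsAffine W.left] (x : Γ(W.left, ⊤)) :
    φI I W x = 0 ↔ x ∈ I.map (ψW W) := by
  haveI : IsAffine ((Functor.fromPUnit (Spec (CommRingCat.of R))).obj W.right) :=
    inferInstanceAs (IsAffine (Spec (CommRingCat.of R)))
  haveI : IsAffine ((𝟭 Scheme).obj W.left) := ‹IsAffine W.left›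
  have h := isPushout_appTop_of_isPullback (IsPullback.of_hasPullback W.hom (clI I))
  constructor
  · intro hx
    let J := I.map (ψW W)
    let l : R ⧸ I →+* Γ(W.left, ⊤) ⧸ J := Ideal.Quotient.lift I ((Ideal.Quotient.mk J).comp (ψW W))
      fun a ha => Ideal.Quotient.eq_zero_iff_mem.2 (Ideal.mem_map_of_mem _ ha)
    have hn : (clI I).appTop ≫ (Scheme.ΓSpecIso (CommRingCat.of (R ⧸ I))).hom =
        (Scheme.ΓSpecIso (CommRingCat.of R)).hom ≫ CommRingCat.ofHom (Ideal.Quotient.mk I) :=
      Scheme.ΓSpecIso_naturality _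
    have hc : W.hom.appTop ≫ CommRingCat.ofHom (Ideal.Quotient.mk J) =
        (clI I).appTop ≫ (Scheme.ΓSpecIso (CommRingCat.of (R ⧸ I))).hom ≫ CommRingCat.ofHom l := by
      rw [← Category.assoc, hn, Category.assoc, ← Iso.inv_comp_eq]
      ext a
      rfl
    have e := ConcreteCategory.congr_hom (h.inl_desc _ _ hc) x
    refine Ideal.Quotient.eq_zero_iff_mem.1 (e.symm.trans ?_)
    show (h.desc _ _ hc).hom ((pullback.fst W.hom (clI I)).appTop.hom x) = 0
    rw [show (pullback.fst W.hom (clI I)).appTop.hom x = 0 from hx, map_zero]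
  · intro hx
    have hle : I.map (ψW W) ≤ RingHom.ker (φI I W) := Ideal.map_le_iff_le_comap.2 fun a ha => by
      show φI I W (ψW W a) = 0
      have e := ConcreteCategory.congr_hom h.w ((Scheme.ΓSpecIso (CommRingCat.of R)).inv.hom a)
      refine Eq.trans e ?_
      show (pullback.snd W.hom (clI I)).appTop.hom ((clI I).appTop.hom _) = 0
      rw [show (clI I).appTop.hom ((Scheme.ΓSpecIso (CommRingCat.of R)).inv.hom a) = 0 from ?_, map_zero]
      have hn := ConcreteCategory.congr_hom
        (Scheme.ΓSpecIso_inv_naturality (CommRingCat.ofHom (Ideal.Quotient.mk I))) a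
      refine Eq.trans hn.symm ?_
      show (Scheme.ΓSpecIso (CommRingCat.of (R ⧸ I))).inv.hom (Ideal.Quotient.mk I a) = 0
      rw [Ideal.Quotient.eq_zero_iff_mem.2 ha, map_zero]
    exact hle hx

theorem val_GmPush (W : (Spec (CommRingCat.of R)).Etale)
    (s : (EtCoh.Gm (Spec (CommRingCat.of R))).obj.obj (op W)) :
    val (W := ((EtCoh.bc (clI I)).obj W).left) ((EtLim.GmPush (clI I)).hom.app (op W) s) =
      φI I W (val (W := W.left) s) := rfl

theorem φI_naturality {W W' : (Spec (CommRingCat.of R)).Etale} (g : W' ⟶ W) (x : Γ(W.left, ⊤)) :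
    ((EtCoh.bc (clI I)).map g).left.appTop.hom (φI I W x) = φI I W' (g.left.appTop.hom x) := by
  have h := congrArg (fun k => Scheme.Hom.appTop k) ((EtCoh.isPullback_bc_map (clI I) g).w)
  simp only [Scheme.Hom.comp_appTop] at h
  exact congrArg (fun k => k.hom x) h

theorem epi_GmPush : Epi (EtLim.GmPush (clI I)) := by
  refine (Sheaf.isLocallySurjective_iff_epi' (φ := EtLim.GmPush (clI I))).1 ⟨fun {U} s => ?_⟩
  refine (EtSite.mem_topology_iff _).2 fun x => ?_
  obtain ⟨_, ⟨(O : U.left.Opens), hO, rfl⟩, hxO, -⟩ := U.left.isBasis_affineOpens.exists_subset_of_mem_open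
    (Set.mem_univ x) isOpen_univ
  haveI : AlgebraicGeometry.Etale U.hom := U.prop
  haveI : IsAffine O.toScheme := hO
  let W : (Spec (CommRingCat.of R)).Etale := Scheme.Etale.mk (O.ι ≫ U.hom)
  let g : W ⟶ U := MorphismProperty.Over.homMk O.ι rfl
  haveI : IsAffine W.left := hO
  let t : ((EtCoh.push (clI I)).obj (EtCoh.Gm _)).obj.obj (op W) :=
    ((EtCoh.push (clI I)).obj (EtCoh.Gm _)).obj.map g.op s
  let c : Γ(pullback W.hom (clI I), ⊤) := val (W := ((EtCoh.bc (clI I)).obj W).left) t
  obtain ⟨v, hv⟩ : IsUnit c := Groth.L28.Divisor.isUnit_val (W := ((EtCoh.bc (clI I)).obj W).left) t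
  obtain ⟨a, ha⟩ := surjective_φI I W (v : Γ(pullback W.hom (clI I), ⊤))
  obtain ⟨b, hb⟩ := surjective_φI I W ((v⁻¹ : (Γ(pullback W.hom (clI I), ⊤))ˣ) : Γ(pullback W.hom (clI I), ⊤))
  let y : W.left := ⟨x, hxO⟩
  obtain ⟨a', ha', hya'⟩ : ∃ a', φI I W a' = c ∧ y ∈ W.left.basicOpen a' := by
    by_cases h : y ∈ W.left.basicOpen a
    · exact ⟨a, ha.trans hv, h⟩
    refine ⟨a + (1 - a * b), by rw [map_add, map_sub, map_one, map_mul, ha, hb, Units.mul_inv, sub_self, add_zero, hv], ?_⟩
    rw [Scheme.mem_basicOpen _ _ _ (Set.mem_univ y : y ∈ (⊤ : W.left.Opens))] at h ⊢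
    have hmem : W.left.presheaf.germ ⊤ y trivial a ∈ IsLocalRing.maximalIdeal (W.left.presheaf.stalk y) := h
    rw [show a + (1 - a * b) = 1 + a * (1 - b) by ring, map_add, map_one, map_mul]
    by_contra hn
    have h2 := Ideal.sub_mem _ (show _ ∈ IsLocalRing.maximalIdeal (W.left.presheaf.stalk y) from hn)
      (Ideal.mul_mem_right (W.left.presheaf.germ ⊤ y trivial (1 - b)) _ hmem)
    rw [add_sub_cancel_right] at h2
    exact (IsLocalRing.maximalIdeal.isMaximal (W.left.presheaf.stalk y)).ne_top ((Ideal.eq_top_iff_one _).2 h2)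
  let D : W.left.Opens := W.left.basicOpen a'
  haveI : AlgebraicGeometry.Etale W.hom := W.prop
  let W₂ : (Spec (CommRingCat.of R)).Etale := Scheme.Etale.mk (D.ι ≫ W.hom)
  let g₂ : W₂ ⟶ W := MorphismProperty.Over.homMk D.ι rfl
  have hu : IsUnit (g₂.left.appTop.hom a') := by
    show IsUnit (D.ι.appTop.hom a')
    rw [Scheme.Opens.ι_appTop]
    rw [show W.left.presheaf.map (homOfLE (le_top : D.ι ''ᵁ ⊤ ≤ ⊤)).op =
      W.left.presheaf.map (homOfLE (W.left.basicOpen_le a')).op ≫ W.left.presheaf.map (homOfLE D.ι_image_top.le).op by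
        rw [← Functor.map_comp]; rfl]
    exact IsUnit.map (W.left.presheaf.map (homOfLE D.ι_image_top.le).op).hom (RingedSpace.isUnit_res_basicOpen W.left.toRingedSpace a')
  refine ⟨W₂, g₂ ≫ g, (⟨y, hya'⟩ : D), ⟨mkU (W := W₂.left) hu.unit,
    val_inj (W := ((EtCoh.bc (clI I)).obj W₂).left) ?_⟩, ?_⟩
  · refine (val_GmPush I W₂ (mkU (W := W₂.left) hu.unit)).trans ?_
    show φI I W₂ (g₂.left.appTop.hom a') = _
    rw [← φI_naturality, ha', op_comp, Functor.map_comp]
    rfl
  · show (g₂ ≫ g).left (⟨y, hya'⟩ : D) = x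
    exact (Scheme.Hom.comp_apply D.ι O.ι (⟨y, hya'⟩ : D))

end Groth.L27.GmHensel
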