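import Groth.Agent.L07.GmFppf.Affine
import Groth.Agent.L27.Colim.Tuples
import Groth.Agent.L28.EtCartan.Amitsur
import Mathlib.AlgebraicGeometry.Morphisms.Etale
import Mathlib.RingTheory.RingHom.Etale

/-!
# Affine models of the tuples of a finite etale morphism of affine schemes over a base
-/

set_option autoImplicit false
set_option linter.style.haveILetI false
set_option linter.unusedSectionVars false
set_option backward.isDefEq.respectTransparency.types false

universe u

open CategoryTheory CategoryTheory.Limits AlgebraicGeometry Opposite TensorProduct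

noncomputable section

namespace Groth.L27.GmHensel

open Groth.L07.GmFppf (TT d d_ι ι liftT liftT_ι algHom_ext_TT)
open Groth.L27.Colim (Tup)
open Groth.L28.EtCartan (fn fn_fn fn_congr)

variable {X : Scheme.{u}} {K L : X.Etale} (p : L ⟶ K)

theorem isoSpec_inv_appTop' (S : Scheme.{u}) [IsAffine S] :
    S.isoSpec.inv.appTop = (Scheme.ΓSpecIso Γ(S, ⊤)).inv := by
  have h : S.toSpecΓ.appTop ≫ S.isoSpec.inv.appTop = 𝟙 _ := by
    rw [← Scheme.Hom.comp_appTop, Scheme.isoSpec_inv_toSpecΓ, Scheme.Hom.id_appTop]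
  rw [Scheme.toSpecΓ_appTop, ← Iso.eq_inv_comp] at h
  simpa using h

/-- Functions on the target. -/
abbrev RA (K : X.Etale) : Type u := Γ(K.left, ⊤)

/-- The algebra of a morphism. -/
abbrev algOf : Algebra (RA K) (RA L) := (fn p).toAlgebra

section

variable {n : ℕ} {V : X.Etale} (t : Tup p n V)

/-- The algebra structure of functions on an object carrying a tuple. -/
abbrev algTup : Algebra (RA K) (RA V) := (fn (t.1 0 ≫ p)).toAlgebra

/-- The algebra homomorphism of the tensor power classified by a tuple. -/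
def evA : letI := algOf p; letI := algTup p t; TT (RA K) (RA L) (n + 1) →ₐ[RA K] RA V :=
  letI := algOf p
  letI := algTup p t
  liftT (n + 1) fun j =>
    ({ toRingHom := fn (t.1 j)
       commutes' := fun a => (fn_fn (t.1 j) p a).trans (fn_congr (t.2 j 0) a) } : RA L →ₐ[RA K] RA V)

/-- The homomorphism of the tensor power classified by a tuple. -/
def ev : letI := algOf p; TT (RA K) (RA L) (n + 1) →+* RA V :=
  letI := algOf p
  letI := algTup p t
  (evA p t).toRingHom

theorem ev_algebraMap (a : RA K) : letI := algOf p; ev p t (algebraMap (RA K) (TT (RA K) (RA L) (n + 1)) a) = fn (t.1 0 ≫ p) a := by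
  letI := algOf p
  letI := algTup p t
  refine Eq.trans (b := algebraMap (RA K) (RA V) a) ?_ rfl
  exact AlgHom.commutes _ a

theorem ev_ι (j : Fin (n + 1)) (b : RA L) : letI := algOf p; ev p t (ι (n + 1) j b) = fn (t.1 j) b := by
  letI := algOf p
  letI := algTup p t
  have h := liftT_ι (n + 1) (fun j =>
    ({ toRingHom := fn (t.1 j)
       commutes' := fun a => (fn_fn (t.1 j) p a).trans (fn_congr (t.2 j 0) a) } : RA L →ₐ[RA K] RA V)) j
  rw [AlgHom.ext_iff] at h
  have h' := h b
  rw [AlgHom.comp_apply] at h'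
  unfold ev evA
  rw [AlgHom.toRingHom_eq_coe, RingHom.coe_coe]
  exact h'

/-- Homomorphisms out of the tensor powers agree when they do on the base and on the factors. -/
theorem ringHom_ext_TT {S : Type u} [CommRing S] (m : ℕ) :
    letI := algOf p
    ∀ (f g : TT (RA K) (RA L) m →+* S),
      f.comp (algebraMap (RA K) (TT (RA K) (RA L) m)) = g.comp (algebraMap (RA K) (TT (RA K) (RA L) m)) →
      (∀ j b, f (ι m j b) = g (ι m j b)) → f = g := by
  letI := algOf p
  intro f g h1 h2
  letI : Algebra (RA K) S := (f.comp (algebraMap (RA K) (TT (RA K) (RA L) m))).toAlgebra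
  let f' : TT (RA K) (RA L) m →ₐ[RA K] S := { f with commutes' := fun a => rfl }
  let g' : TT (RA K) (RA L) m →ₐ[RA K] S := { g with commutes' := fun a => (RingHom.congr_fun h1 a).symm }
  exact congrArg AlgHom.toRingHom (algHom_ext_TT m (f := f') (g := g') fun j => AlgHom.ext fun b => h2 j b)

theorem ev_res {W : X.Etale} (g : W ⟶ V) : letI := algOf p; (fn g).comp (ev p t) = ev p (t.res g) := by
  letI := algOf p
  refine ringHom_ext_TT p (n + 1) _ _ (RingHom.ext fun a => ?_) fun j b => ?_
  · rw [RingHom.comp_apply, RingHom.comp_apply, RingHom.comp_apply]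
    rw [ev_algebraMap, ev_algebraMap, fn_fn]
    exact fn_congr (Category.assoc _ _ _).symm a
  · show fn g (ev p t _) = _
    rw [ev_ι, ev_ι, fn_fn]
    rfl

theorem ev_face {V : X.Etale} (t : Tup p (n + 1) V) (j : Fin (n + 2)) :
    letI := algOf p; ev p (t.face j) = (ev p t).comp (d (n + 1) j).toRingHom := by
  letI := algOf p
  refine ringHom_ext_TT p (n + 1) _ _ (RingHom.ext fun a => ?_) fun k b => ?_
  · rw [RingHom.comp_apply, RingHom.comp_apply, RingHom.comp_apply, AlgHom.toRingHom_eq_coe, RingHom.coe_coe]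
    rw [ev_algebraMap, AlgHom.commutes, ev_algebraMap]
    exact fn_congr (t.2 _ _) a
  · show ev p (t.face j) _ = ev p t ((d (n + 1) j).comp (ι (n + 1) k) b)
    rw [ev_ι, d_ι, ev_ι]
    rfl

end

section Model

variable [IsAffine K.left] [IsAffine L.left]

theorem etale_TT : letI := algOf p; ∀ m, Algebra.Etale (RA K) (TT (RA K) (RA L) m) := by
  letI := algOf p
  haveI : Algebra.Etale (RA K) (RA L) := RingHom.etale_algebraMap.1
    (HasRingHomProperty.appTop (P := @AlgebraicGeometry.Etale) p.left (EtSite.etale_left p))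
  intro m
  induction m with
  | zero => exact inferInstanceAs (Algebra.Etale (RA K) (RA K))
  | succ m ih =>
    haveI := ih
    exact Algebra.Etale.comp (RA K) (RA L) (RA L ⊗[RA K] TT (RA K) (RA L) m)

/-- The structure map of the model. -/
def modelHom (m : ℕ) : letI := algOf p; Spec (CommRingCat.of (TT (RA K) (RA L) m)) ⟶ K.left :=
  letI := algOf p
  Spec.map (CommRingCat.ofHom (algebraMap (RA K) (TT (RA K) (RA L) m))) ≫ K.left.isoSpec.inv

theorem etale_modelHom (m : ℕ) : AlgebraicGeometry.Etale (modelHom p m) := by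
  letI := algOf p
  haveI := etale_TT p m
  haveI : AlgebraicGeometry.Etale (Spec.map (CommRingCat.ofHom (algebraMap (RA K) (TT (RA K) (RA L) m)))) :=
    (HasRingHomProperty.Spec_iff (P := @AlgebraicGeometry.Etale)).2 (RingHom.etale_algebraMap.2 ‹_›)
  unfold modelHom
  infer_instance

/-- The model. -/
def model (m : ℕ) : X.Etale :=
  haveI := etale_modelHom p m
  haveI : AlgebraicGeometry.Etale K.hom := K.prop
  Scheme.Etale.mk (modelHom p m ≫ K.hom)

instance isAffine_model (m : ℕ) : IsAffine (model p m).left :=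
  inferInstanceAs (IsAffine (Spec (CommRingCat.of (letI := algOf p; TT (RA K) (RA L) m))))

theorem modelPr_w (m : ℕ) (j : Fin m) :
    letI := algOf p
    (Spec.map (CommRingCat.ofHom (ι m j).toRingHom) ≫ L.left.isoSpec.inv) ≫ p.left =
      modelHom p m := by
  letI := algOf p
  rw [Category.assoc, ← Scheme.isoSpec_inv_naturality, ← Spec.map_comp_assoc]
  refine congrArg (fun k => Spec.map k ≫ K.left.isoSpec.inv) (CommRingCat.hom_ext ?_)
  exact (ι m j).comp_algebraMap

/-- The projections of the model. -/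
def modelPr (m : ℕ) (j : Fin m) : model p m ⟶ L :=
  letI := algOf p
  MorphismProperty.Over.homMk (Spec.map (CommRingCat.ofHom (ι m j).toRingHom) ≫ L.left.isoSpec.inv) (by
    show _ ≫ L.hom = modelHom p m ≫ K.hom
    rw [← modelPr_w p m j, Category.assoc _ p.left K.hom, MorphismProperty.Over.w p]
    rfl)

/-- The universal tuple. -/
def univTup (n : ℕ) : Tup p n (model p (n + 1)) :=
  ⟨fun j => modelPr p (n + 1) j, fun k l => MorphismProperty.Over.Hom.ext
    ((modelPr_w p (n + 1) k).trans (modelPr_w p (n + 1) l).symm)⟩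

theorem ev_univTup (n : ℕ) :
    letI := algOf p
    ev p (univTup p n) = (Scheme.ΓSpecIso (CommRingCat.of (TT (RA K) (RA L) (n + 1)))).inv.hom := by
  letI := algOf p
  have key : ∀ (j : Fin (n + 1)) (b : RA L), fn (modelPr p (n + 1) j) b =
      (Scheme.ΓSpecIso (CommRingCat.of (TT (RA K) (RA L) (n + 1)))).inv.hom (ι (n + 1) j b) := fun j b => by
    show (Spec.map (CommRingCat.ofHom (ι (n + 1) j).toRingHom) ≫ L.left.isoSpec.inv).appTop.hom b = _
    rw [Scheme.Hom.comp_appTop, isoSpec_inv_appTop']
    exact ConcreteCategory.congr_hom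
      (Scheme.ΓSpecIso_inv_naturality (CommRingCat.ofHom (ι (n + 1) j).toRingHom)).symm b
  refine ringHom_ext_TT p (n + 1) _ _ (RingHom.ext fun a => ?_) fun j b => ?_
  · rw [RingHom.comp_apply, RingHom.comp_apply, ev_algebraMap]
    show (Spec.map (CommRingCat.ofHom (ι (n + 1) 0).toRingHom) ≫ L.left.isoSpec.inv ≫ p.left).appTop.hom a = _
    rw [← Category.assoc, modelPr_w p (n + 1) 0, modelHom, Scheme.Hom.comp_appTop, isoSpec_inv_appTop']
    exact ConcreteCategory.congr_hom
      (Scheme.ΓSpecIso_inv_naturality (CommRingCat.ofHom (algebraMap (RA K) (TT (RA K) (RA L) (n + 1))))).symm a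
  · rw [ev_ι]
    exact key j b

theorem exists_classify {n : ℕ} {V : X.Etale} (t : Tup p n V) :
    letI := algOf p
    ∃ g : V ⟶ model p (n + 1), (univTup p n).res g = t ∧
      ∀ z, fn g ((Scheme.ΓSpecIso (CommRingCat.of (TT (RA K) (RA L) (n + 1)))).inv.hom z) = ev p t z := by
  letI := algOf p
  let G : V.left ⟶ Spec (CommRingCat.of (TT (RA K) (RA L) (n + 1))) :=
    V.left.toSpecΓ ≫ Spec.map (CommRingCat.ofHom (ev p t))
  have hG0 : G ≫ modelHom p (n + 1) = (t.1 0 ≫ p).left := by
    show (V.left.toSpecΓ ≫ _) ≫ Spec.map _ ≫ _ = _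
    rw [Category.assoc, ← Spec.map_comp_assoc,
      show CommRingCat.ofHom (algebraMap (RA K) (TT (RA K) (RA L) (n + 1))) ≫ CommRingCat.ofHom (ev p t) =
        (t.1 0 ≫ p).left.appTop from CommRingCat.hom_ext (RingHom.ext fun a => ev_algebraMap p t a),
      ← Scheme.toSpecΓ_naturality_assoc, Scheme.toSpecΓ_isoSpec_inv, Category.comp_id]
  have hGj : ∀ j, G ≫ (modelPr p (n + 1) j).left = (t.1 j).left := fun j => by
    show (V.left.toSpecΓ ≫ _) ≫ Spec.map _ ≫ _ = _
    rw [Category.assoc, ← Spec.map_comp_assoc,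
      show CommRingCat.ofHom (ι (n + 1) j).toRingHom ≫ CommRingCat.ofHom (ev p t) = (t.1 j).left.appTop from
        CommRingCat.hom_ext (RingHom.ext fun b => ev_ι p t j b),
      ← Scheme.toSpecΓ_naturality_assoc, Scheme.toSpecΓ_isoSpec_inv, Category.comp_id]
  refine ⟨MorphismProperty.Over.homMk G (by
    show G ≫ modelHom p (n + 1) ≫ K.hom = V.hom
    rw [← Category.assoc, hG0]
    exact MorphismProperty.Over.w (t.1 0 ≫ p)),
    Subtype.ext (funext fun j => MorphismProperty.Over.Hom.ext (hGj j)), fun z => ?_⟩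
  show G.appTop.hom _ = _
  rw [Scheme.Hom.comp_appTop]
  have h := ConcreteCategory.congr_hom (Scheme.ΓSpecIso_inv_naturality (CommRingCat.ofHom (ev p t))) z
  refine (congrArg V.left.toSpecΓ.appTop.hom h.symm).trans ?_
  rw [Scheme.toSpecΓ_appTop]
  exact ConcreteCategory.congr_hom (Scheme.ΓSpecIso (CommRingCat.of (RA V))).inv_hom_id _

end Model

end Groth.L27.GmHensel
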