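import Groth.Agent.L27.GmHensel.Solve
import Groth.Agent.L27.GmHensel.Cover
import Groth.Agent.L27.GmHensel.Kernel
import Groth.Agent.L27.GmHensel.Nerve
import Groth.Agent.L05.Hensel.Perm
import Groth.Agent.L24.Hensel.Lift
import Groth.Agent.L27.Colim.Cohomology

/-!
# Units congruent to one on finite etale schemes over a henselian local ring are Čech acyclic
-/

set_option autoImplicit false
set_option linter.style.haveILetI false
set_option linter.unusedSectionVars false
set_option backward.isDefEq.respectTransparency.types false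

universe u

open CategoryTheory CategoryTheory.Limits AlgebraicGeometry Opposite TensorProduct

noncomputable section

namespace Groth.L27.GmHensel

open Groth.L07.GmFppf (TT d addUnits addUnits_comp)
open Groth.L27.Colim (Tup Fam IsNat Acyc)
open Groth.L28.EtCartan (fn fn_fn fn_congr)
open Groth.L28.Divisor (mkU val val_inj)

variable {R : Type u} [CommRing R] (I : Ideal R)

/-- The kernel of the restriction of units. -/
abbrev Kk : EtCoh.Ab (Spec (CommRingCat.of R)) := kernel (EtLim.GmPush (clI I))

/-- The defining sequence. -/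
abbrev kSeq : ShortComplex (EtCoh.Ab (Spec (CommRingCat.of R))) :=
  ShortComplex.mk (kernel.ι (EtLim.GmPush (clI I))) (EtLim.GmPush (clI I)) (kernel.condition _)

theorem kSeq_shortExact : (kSeq I).ShortExact := by
  haveI := epi_GmPush I
  exact { exact := ShortComplex.exact_of_f_is_kernel _ (kernelIsKernel _) }

theorem φI_eq_zero {W : (Spec (CommRingCat.of R)).Etale} (x : Γ(W.left, ⊤)) (hx : x ∈ I.map (ψW W)) :
    φI I W x = 0 := by
  have hle : I.map (ψW W) ≤ RingHom.ker (φI I W) := Ideal.map_le_iff_le_comap.2 fun a ha => by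
    show φI I W (ψW W a) = 0
    have hsq : W.hom.appTop ≫ (pullback.fst W.hom (clI I)).appTop =
        (clI I).appTop ≫ (pullback.snd W.hom (clI I)).appTop :=
      (Scheme.Hom.comp_appTop _ _).symm.trans
        ((congrArg Scheme.Hom.appTop pullback.condition).trans (Scheme.Hom.comp_appTop _ _))
    refine (ConcreteCategory.congr_hom hsq ((Scheme.ΓSpecIso (CommRingCat.of R)).inv.hom a)).trans ?_
    show (pullback.snd W.hom (clI I)).appTop.hom ((clI I).appTop.hom _) = 0
    rw [show (clI I).appTop.hom ((Scheme.ΓSpecIso (CommRingCat.of R)).inv.hom a) = 0 from ?_, map_zero]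
    have hn := ConcreteCategory.congr_hom
      (Scheme.ΓSpecIso_inv_naturality (CommRingCat.ofHom (Ideal.Quotient.mk I))) a
    refine Eq.trans hn.symm ?_
    show (Scheme.ΓSpecIso (CommRingCat.of (R ⧸ I))).inv.hom (Ideal.Quotient.mk I a) = 0
    rw [Ideal.Quotient.eq_zero_iff_mem.2 ha, map_zero]
  exact hle hx

/-- The underlying unit. -/
def unitOf (W : (Spec (CommRingCat.of R)).Etale) : (Kk I).obj.obj (op W) →+ Additive (RA W)ˣ :=
  (AddEquiv.ulift : ULift.{u + 1} (Additive (RA W)ˣ) ≃+ Additive (RA W)ˣ).toAddMonoidHom.comp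
    ((kernel.ι (EtLim.GmPush (clI I))).hom.app (op W)).hom

theorem unitOf_injective (W : (Spec (CommRingCat.of R)).Etale) : Function.Injective (unitOf I W) := fun _ _ h =>
  Groth.L27.Colim.app_injective (kSeq_shortExact I) W (ULift.ext _ _ h)

theorem unitOf_map {V W : (Spec (CommRingCat.of R)).Etale} (g : W ⟶ V) (x : (Kk I).obj.obj (op V)) :
    unitOf I W ((Kk I).obj.map g.op x) = addUnits (fn g) (unitOf I V x) := by
  have h := NatTrans.naturality_apply (kernel.ι (EtLim.GmPush (clI I))).hom g.op x
  exact (congrArg ULift.down h).trans rfl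

theorem unitOf_mem {W : (Spec (CommRingCat.of R)).Etale} [IsAffine W.left] (x : (Kk I).obj.obj (op W)) :
    ((Additive.toMul (unitOf I W x) : (RA W)ˣ) : RA W) - 1 ∈ I.map (ψW W) := by
  refine (φI_eq_zero_iff I W _).1 ?_
  have h := Groth.L27.Colim.app_comp (E := kSeq I) W x
  have h' := (val_GmPush I W ((kernel.ι (EtLim.GmPush (clI I))).hom.app (op W) x)).symm.trans
    ((congrArg (val (W := ((EtCoh.bc (clI I)).obj W).left)) h).trans Groth.L28.Divisor.val_zero)
  rw [map_sub, map_one, sub_eq_zero]
  exact h'

theorem exists_unitOf {W : (Spec (CommRingCat.of R)).Etale} (w : (RA W)ˣ) (hw : (w : RA W) - 1 ∈ I.map (ψW W)) :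
    ∃ x, unitOf I W x = Additive.ofMul w := by
  have h0 := φI_eq_zero I _ hw
  rw [map_sub, map_one, sub_eq_zero] at h0
  obtain ⟨x, hx⟩ := Groth.L27.Colim.app_exact (kSeq_shortExact I) W (mkU (W := W.left) w) (by
    refine val_inj (W := ((EtCoh.bc (clI I)).obj W).left) ?_
    exact (val_GmPush I W (mkU (W := W.left) w)).trans (h0.trans Groth.L28.Divisor.val_zero.symm))
  exact ⟨x, congrArg ULift.down hx⟩

theorem ψW_comp {V W : (Spec (CommRingCat.of R)).Etale} (g : W ⟶ V) : (fn g).comp (ψW V) = ψW W := by
  have h : V.hom.appTop ≫ g.left.appTop = W.hom.appTop :=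
    (Scheme.Hom.comp_appTop _ _).symm.trans (congrArg Scheme.Hom.appTop (MorphismProperty.Over.w g))
  exact RingHom.ext fun a => ConcreteCategory.congr_hom h ((Scheme.ΓSpecIso (CommRingCat.of R)).inv.hom a)

theorem isAffine_of_fin {W : (Spec (CommRingCat.of R)).Etale} (hW : Fin' W) : IsAffine W.left := by
  haveI : IsFinite W.hom := hW
  exact @isAffine_of_isAffineHom _ _ W.hom _ (inferInstanceAs (IsAffine (Spec (CommRingCat.of R))))

theorem henselianRing_ψW [HenselianLocalRing R] (hI : I ≠ ⊤) {W : (Spec (CommRingCat.of R)).Etale} (hW : Fin' W) :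
    HenselianRing (RA W) (I.map (ψW W)) := by
  haveI : IsFinite W.hom := hW
  haveI : HenselianRing R I := Groth.L24.Hensel.henselianRing_of_ne_top hI
  letI : Algebra R (RA W) := (ψW W).toAlgebra
  haveI : IsAffine ((Functor.fromPUnit (Spec (CommRingCat.of R))).obj W.right) :=
    inferInstanceAs (IsAffine (Spec (CommRingCat.of R)))
  haveI : Module.Finite R (RA W) := RingHom.finite_algebraMap.1
    ((Scheme.Hom.finite_appTop W.hom).comp
      (RingHom.Finite.of_surjective _ (Scheme.ΓSpecIso (CommRingCat.of R)).commRingCatIsoToRingEquiv.symm.surjective))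
  exact Groth.L05.henselianRing_map_of_isIntegral I (RA W)

/-- The sheaf of units congruent to one is Čech exact along finite etale coverings. -/
theorem acyc_Kk [HenselianLocalRing R] (hI : I ≠ ⊤) : Acyc (Fin' (X := Spec (CommRingCat.of R))) (Kk I) := by
  intro K L p hK hL hp n x hx hdx
  haveI := isAffine_of_fin hK
  haveI := isAffine_of_fin hL
  haveI : Surjective p.left := ⟨(Groth.L27.Colim.isCov_iff p).1 hp⟩
  letI := algOf p
  haveI := Groth.L28.EtCartan.faithfullyFlat p
  haveI : IsFinite p.left := isFinite_left p hL hK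
  haveI : AlgebraicGeometry.Etale p.left := EtSite.etale_left p
  haveI : Module.Finite (RA K) (RA L) := RingHom.finite_algebraMap.1 (Scheme.Hom.finite_appTop p.left)
  haveI : Algebra.Etale (RA K) (RA L) := RingHom.etale_algebraMap.1
    (HasRingHomProperty.appTop (P := @AlgebraicGeometry.Etale) p.left (EtSite.etale_left p))
  haveI : Module.FinitePresentation (RA K) (RA L) :=
    Module.FinitePresentation.of_finite_of_finitePresentation (RA K) (RA L)
  haveI : Module.Projective (RA K) (RA L) := Module.Flat.projective_of_finitePresentation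
  haveI := henselianRing_ψW I hI hK
  let J : Ideal (RA K) := I.map (ψW K)
  -- the cochain is the value at the model
  let T : CommRingCat.{u} := CommRingCat.of (TT (RA K) (RA L) (n + 1 + 1))
  let z : Additive (TT (RA K) (RA L) (n + 1 + 1))ˣ :=
    addUnits (Scheme.ΓSpecIso T).hom.hom (unitOf I _ (x _ (univTup p (n + 1))))
  have hz1 : IsOneMod (RA K) (RA L) J (n + 1 + 1) (Additive.toMul z) := by
    haveI := isAffine_model p (n + 1 + 1)
    let ρ : RA (model p (n + 1 + 1)) →+* TT (RA K) (RA L) (n + 1 + 1) := (Scheme.ΓSpecIso T).hom.hom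
    have h := Ideal.mem_map_of_mem ρ (unitOf_mem I (x _ (univTup p (n + 1))))
    rw [RingHom.map_sub, RingHom.map_one, Ideal.map_map] at h
    unfold IsOneMod
    rw [Ideal.map_map]
    have hc : ρ.comp (ψW (model p (n + 1 + 1))) =
        (algebraMap (RA K) (TT (RA K) (RA L) (n + 1 + 1))).comp (ψW K) := by
      refine RingHom.ext fun a => ?_
      have h1 : ψW (model p (n + 1 + 1)) a = ev p (univTup p (n + 1)) (algebraMap (RA K) _ (ψW K a)) := by
        rw [ev_algebraMap]
        exact (RingHom.congr_fun (ψW_comp ((univTup p (n + 1)).1 0 ≫ p)) a).symm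
      rw [RingHom.comp_apply, h1, ev_univTup]
      exact ConcreteCategory.congr_hom (Scheme.ΓSpecIso T).inv_hom_id _
    rw [hc] at h
    exact h
  have hval : ∀ (V : (Spec (CommRingCat.of R)).Etale) (t : Tup p (n + 1) V),
      unitOf I V (x V t) = addUnits (ev p t) z := fun V t => by
    obtain ⟨g, hg, hgz⟩ := exists_classify p t
    conv_lhs => rw [← hg, hx g, unitOf_map]
    refine Additive.toMul.injective (Units.ext ?_)
    show fn g _ = ev p t ((Scheme.ΓSpecIso T).hom.hom _)
    rw [← hgz]
    exact congrArg (fn g) (ConcreteCategory.congr_hom (Scheme.ΓSpecIso T).hom_inv_id _).symm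
  have hz : ∑ i : Fin (n + 1 + 1 + 1), (-1 : ℤ) ^ (i : ℕ) •
      addUnits (d (A := RA K) (B := RA L) (n + 1 + 1) i).toRingHom z = 0 := by
    have h := congrArg (unitOf I _) (congrFun (congrFun hdx _) (univTup p (n + 1 + 1)))
    simp only [Colim.d, Pi.zero_apply, map_zero, map_sum, map_zsmul, hval] at h
    have h2 : addUnits (ev p (univTup p (n + 1 + 1))) (∑ i : Fin (n + 1 + 1 + 1), (-1 : ℤ) ^ (i : ℕ) •
        addUnits (d (A := RA K) (B := RA L) (n + 1 + 1) i).toRingHom z) = 0 := by
      rw [map_sum]
      refine Eq.trans (Finset.sum_congr rfl fun i _ => ?_) h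
      rw [map_zsmul, addUnits_comp, ← ev_face]
    have hinj : Function.Injective (addUnits (ev p (univTup p (n + 1 + 1)))) := fun a b hab => by
      refine Additive.toMul.injective (Units.ext ?_)
      have e := congrArg (fun v => ((Additive.toMul v : (RA (model p (n + 1 + 1 + 1)))ˣ) : RA (model p (n + 1 + 1 + 1)))) hab
      refine (?_ : Function.Injective (ev p (univTup p (n + 1 + 1)))) e
      rw [ev_univTup]
      exact (Scheme.ΓSpecIso (CommRingCat.of (TT (RA K) (RA L) (n + 1 + 1 + 1)))).commRingCatIsoToRingEquiv.symm.injective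
    exact hinj (h2.trans (map_zero _).symm)
  obtain ⟨w, hw1, hw⟩ := exists_solution_one_mod J (n + 1) (Additive.toMul z) hz1 hz
  have hmem : ∀ (V : (Spec (CommRingCat.of R)).Etale) (t : Tup p n V),
      ∃ y, unitOf I V y = addUnits (ev p t) (Additive.ofMul w) := fun V t => by
    refine exists_unitOf I (Units.map (ev p t).toMonoidHom w) ?_
    have h := Ideal.mem_map_of_mem (ev p t) hw1
    rw [map_sub, map_one, Ideal.map_map, Ideal.map_map] at h
    have hc : ((ev p t).comp (algebraMap (RA K) (TT (RA K) (RA L) (n + 1)))).comp (ψW K) = ψW V := by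
      refine RingHom.ext fun a => ?_
      rw [RingHom.comp_apply, RingHom.comp_apply, ev_algebraMap]
      exact RingHom.congr_fun (ψW_comp (t.1 0 ≫ p)) a
    rw [← hc]
    exact h
  choose y hy using hmem
  refine ⟨y, fun {V W} g t => unitOf_injective I W ?_, funext fun V => funext fun t => unitOf_injective I V ?_⟩
  · rw [unitOf_map, hy, hy, addUnits_comp, ev_res]
  · simp only [Colim.d, map_sum, map_zsmul, hy, hval]
    rw [show z = Additive.ofMul (Additive.toMul z) from rfl, ← hw, map_sum]
    refine Finset.sum_congr rfl fun i _ => ?_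
    rw [map_zsmul, addUnits_comp, ev_face]

end Groth.L27.GmHensel
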