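import Groth.Agent.L27.GmHensel.Acyclic
import Groth.Agent.L27.EtSite.HofPush
import Groth.Agent.L27.EtSite.Push
import Groth.Agent.L27.EtSite.PropB
import Groth.Prelude.Def_EtLim

/-!
# Cohomology of the multiplicative group of a henselian local ring and of its quotients
-/

set_option autoImplicit false
set_option linter.style.haveILetI false
set_option linter.unusedSectionVars false
set_option backward.isDefEq.respectTransparency.types false

universe u

open CategoryTheory CategoryTheory.Limits AlgebraicGeometry Opposite CategoryTheory.Abelian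

noncomputable section

namespace Groth.L27.GmHensel

variable {R : Type u} [CommRing R] [HenselianLocalRing R] (I : Ideal R)

/-- Units congruent to one have no higher cohomology. -/
theorem subsingleton_H_Kk (hI : I ≠ ⊤) (n : ℕ) :
    Subsingleton (EtCoh.H (Spec (CommRingCat.of R)) (Kk I) (n + 1)) :=
  Groth.L27.Colim.subsingleton_H_of_acyc (good R) (EtCore.topIsTerminal _)
    (hT₀ := inferInstanceAs (IsFinite (𝟙 (Spec (CommRingCat.of R))))) n (Kk I) (acyc_Kk I hI)

/-- Restriction of the multiplicative group is bijective in positive degrees. -/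
theorem bijective_HGmPull (hI : I ≠ ⊤) [PreservesFiniteLimits (EtCoh.pull (clI I))] (n : ℕ) :
    Function.Bijective (EtLim.HGmPull (clI I) (n + 1)) := by
  haveI : IsClosedImmersion (clI I) := IsClosedImmersion.spec_of_surjective _ Ideal.Quotient.mk_surjective
  have hP : Function.Bijective (EtLim.HofPush (clI I) (EtCoh.Gm _) (n + 1)) :=
    EtSite.bijective_HofPush (clI I) _ (fun q hq =>
      EtSite.isZero_Rpush_of_propB (clI I) (EtSite.propB_of_isIntegralHom (clI I)) _ q hq) (n + 1)
  have hF : Function.Bijective ((EtCoh.HF (Spec (CommRingCat.of R)) (n + 1)).map (EtLim.GmPush (clI I))) := by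
    have hS := kSeq_shortExact I
    refine ⟨fun a b h => ?_, fun b => ?_⟩
    · rw [← sub_eq_zero]
      have h' : (EtCoh.HF (Spec (CommRingCat.of R)) (n + 1)).map (EtLim.GmPush (clI I)) (a - b) = 0 := by
        rw [map_sub, h, sub_self]
      rw [EtSite.HF_map_apply] at h'
      haveI := subsingleton_H_Kk I hI n
      obtain ⟨q, hq⟩ := Ext.covariant_sequence_exact₂ _ hS (a - b) h'
      exact hq.symm.trans ((congrArg (fun z => Ext.comp z _ _) (Subsingleton.elim q 0)).trans (Ext.zero_comp _ _ _ _ _))
    · haveI := subsingleton_H_Kk I hI (n + 1)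
      obtain ⟨a, ha⟩ := Ext.covariant_sequence_exact₃ _ hS b rfl (Subsingleton.elim _ _)
      exact ⟨a, (EtSite.HF_map_apply (EtLim.GmPush (clI I)) (n + 1) a).trans ha⟩
  exact hP.comp hF

end Groth.L27.GmHensel
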