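import Groth.Agent.L07.GmFppf.Solve
import Groth.Agent.L05.Hensel.Smooth

/-!
# Principal units over henselian pairs: multiplicative Amitsur cocycles congruent to one are coboundaries
-/

universe u

open TensorProduct Groth.L07.GmFppf

set_option autoImplicit false
set_option backward.isDefEq.respectTransparency false
set_option backward.isDefEq.respectTransparency.types false
set_option linter.style.haveILetI false

noncomputable section

namespace Groth.L27.GmHensel

variable {A B : Type u} [CommRing A] [CommRing B] [Algebra A B]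

/-- A smooth algebra through whose universal solution all solutions factor. -/
theorem exists_universal_solver [Module.Finite A B] [Module.Projective A B] [Module.FaithfullyFlat A B] (p : ℕ)
    (z : Additive (A ⊗[A] TT A B (p + 1))ˣ) (hz : δu A (p + 1) z = 0) :
    ∃ (Y : Type u) (_ : CommRing Y) (_ : Algebra A Y) (b : Additive (Y ⊗[A] TT A B p)ˣ),
      Algebra.Smooth A Y ∧ δu Y p b = chgU (Algebra.ofId A Y) (p + 1) z ∧
      ∀ (C : Type u) [CommRing C] [Algebra A C] (w : Additive (C ⊗[A] TT A B p)ˣ),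
        δu C p w = chgU (Algebra.ofId A C) (p + 1) z → ∃ h : Y →ₐ[A] C, chgU h p b = w := by
  classical
  have hzC : ∀ (C : Type u) [CommRing C] [Algebra A C],
      δu C (p + 1) (chgU (Algebra.ofId A C) (p + 1) z) = 0 := fun C _ _ => by
    rw [← chgU_δu, hz, map_zero]
  obtain ⟨n, g, φ, hφ⟩ := exists_dualBasis (A := A) (TT A B p)
  obtain ⟨n', g', φ', hφ'⟩ := exists_dualBasis (A := A) (TT A B (p + 1))
  let R0 := MvPolynomial (Fin n ⊕ Fin n) A
  let X0 : R0 ⊗[A] TT A B p := ∑ i, MvPolynomial.X (Sum.inl i) ⊗ₜ[A] g i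
  let Y0 : R0 ⊗[A] TT A B p := ∑ i, MvPolynomial.X (Sum.inr i) ⊗ₜ[A] g i
  let r1 : Fin n ⊕ (Fin n ⊕ Fin n) → R0 := Sum.elim (fun i => coord (φ i) (X0 * Y0 - 1))
    (Sum.elim (fun i => MvPolynomial.X (Sum.inl i) - coord (φ i) X0)
      (fun i => MvPolynomial.X (Sum.inr i) - coord (φ i) Y0))
  let I1 : Ideal R0 := Ideal.span (Set.range r1)
  haveI : Algebra.FinitePresentation A (R0 ⧸ I1) := Algebra.FinitePresentation.quotient (Submodule.fg_span (Set.finite_range r1))
  let π1 := Ideal.Quotient.mkₐ A I1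
  have h1 : ∀ k, π1 (r1 k) = 0 := fun k => Ideal.Quotient.eq_zero_iff_mem.2 (Ideal.subset_span ⟨k, rfl⟩)
  have hXY : chg π1 p X0 * chg π1 p Y0 = 1 := by
    rw [← map_mul, ← sub_eq_zero, ← map_one (chg (B := B) π1 p), ← map_sub]
    exact eq_of_coord hφ fun i => by rw [chg_coord, map_zero]; exact h1 (Sum.inl i)
  let b1 : Additive ((R0 ⧸ I1) ⊗[A] TT A B p)ˣ := Additive.ofMul ⟨_, _, hXY, (mul_comm _ _).trans hXY⟩
  let r2 : Fin n' → R0 ⧸ I1 := fun j => coord (φ' j)
    (((Additive.toMul (δu _ p b1 - chgU (Algebra.ofId A (R0 ⧸ I1)) (p + 1) z) :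
      ((R0 ⧸ I1) ⊗[A] TT A B (p + 1))ˣ) : (R0 ⧸ I1) ⊗[A] TT A B (p + 1)) - 1)
  let I2 : Ideal (R0 ⧸ I1) := Ideal.span (Set.range r2)
  let Y := (R0 ⧸ I1) ⧸ I2
  letI instY : CommRing Y := Ideal.Quotient.commRing I2
  letI algY : Algebra A Y := Ideal.Quotient.algebra A
  haveI : Algebra.FinitePresentation A Y := Algebra.FinitePresentation.quotient (Submodule.fg_span (Set.finite_range r2))
  let π2 := Ideal.Quotient.mkₐ A I2
  let b : Additive (Y ⊗[A] TT A B p)ˣ := chgU π2 p b1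
  have hb : δu Y p b = chgU (Algebra.ofId A Y) (p + 1) z := by
    rw [← sub_eq_zero, ← chgU_ofId π2, ← chgU_δu, ← map_sub]
    refine Additive.toMul.injective (Units.ext ?_)
    show chg π2 (p + 1) _ = 1
    rw [← sub_eq_zero, ← map_one (chg (B := B) π2 (p + 1)), ← map_sub]
    exact eq_of_coord hφ' fun j => by
      rw [chg_coord, map_zero]
      exact Ideal.Quotient.eq_zero_iff_mem.2 (Ideal.subset_span ⟨j, rfl⟩)
  have hrep : ∀ (C : Type u) [CommRing C] [Algebra A C] (w : Additive (C ⊗[A] TT A B p)ˣ),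
      δu C p w = chgU (Algebra.ofId A C) (p + 1) z → ∃ h : Y →ₐ[A] C,
        chgU h p b = w ∧
        (∀ i, h (π2 (π1 (MvPolynomial.X (Sum.inl i)))) =
          coord (φ i) ((Additive.toMul w : (C ⊗[A] TT A B p)ˣ) : C ⊗[A] TT A B p)) ∧
        ∀ i, h (π2 (π1 (MvPolynomial.X (Sum.inr i)))) =
          coord (φ i) (((Additive.toMul w)⁻¹ : (C ⊗[A] TT A B p)ˣ) : C ⊗[A] TT A B p) := by
    intro C _ _ w hw
    let W : C ⊗[A] TT A B p := ((Additive.toMul w : (C ⊗[A] TT A B p)ˣ) : C ⊗[A] TT A B p)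
    let W' : C ⊗[A] TT A B p := (((Additive.toMul w)⁻¹ : (C ⊗[A] TT A B p)ˣ) : C ⊗[A] TT A B p)
    let h0 : R0 →ₐ[A] C := MvPolynomial.aeval (Sum.elim (fun i => coord (φ i) W) (fun i => coord (φ i) W'))
    have hX : chg h0 p X0 = W := by
      simp only [X0, map_sum]
      refine Eq.trans (Finset.sum_congr rfl fun i _ => ?_) (sum_coord hφ W)
      show chg h0 p (MvPolynomial.X (Sum.inl i) ⊗ₜ[A] g i) = _
      rw [show chg (B := B) h0 p (MvPolynomial.X (Sum.inl i) ⊗ₜ[A] g i) = h0 (MvPolynomial.X (Sum.inl i)) ⊗ₜ[A] g i by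
        simp [chg]]
      exact congrArg (· ⊗ₜ[A] g i) (MvPolynomial.aeval_X _ _)
    have hY : chg h0 p Y0 = W' := by
      simp only [Y0, map_sum]
      refine Eq.trans (Finset.sum_congr rfl fun i _ => ?_) (sum_coord hφ W')
      show chg h0 p (MvPolynomial.X (Sum.inr i) ⊗ₜ[A] g i) = _
      rw [show chg (B := B) h0 p (MvPolynomial.X (Sum.inr i) ⊗ₜ[A] g i) = h0 (MvPolynomial.X (Sum.inr i)) ⊗ₜ[A] g i by
        simp [chg]]
      exact congrArg (· ⊗ₜ[A] g i) (MvPolynomial.aeval_X _ _)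
    have hl0 : ∀ i, h0 (MvPolynomial.X (Sum.inl i)) = coord (φ i) W := fun i => MvPolynomial.aeval_X _ _
    have hr0 : ∀ i, h0 (MvPolynomial.X (Sum.inr i)) = coord (φ i) W' := fun i => MvPolynomial.aeval_X _ _
    have hk1 : I1 ≤ RingHom.ker h0.toRingHom := Ideal.span_le.2 fun x hx => by
      obtain ⟨k, rfl⟩ := hx
      show h0 (r1 k) = 0
      rcases k with i | i | i
      · show h0 (coord (φ i) (X0 * Y0 - 1)) = 0
        rw [← chg_coord, map_sub, map_mul, map_one, hX, hY,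
          show W * W' = 1 from Units.mul_inv _, sub_self, map_zero]
      · show h0 (MvPolynomial.X (Sum.inl i) - coord (φ i) X0) = 0
        rw [map_sub, ← chg_coord, hX, hl0, sub_self]
      · show h0 (MvPolynomial.X (Sum.inr i) - coord (φ i) Y0) = 0
        rw [map_sub, ← chg_coord, hY, hr0, sub_self]
    let h1' : R0 ⧸ I1 →ₐ[A] C := Ideal.Quotient.liftₐ I1 h0 fun x hx => hk1 hx
    have hb1 : chgU h1' p b1 = w := Additive.toMul.injective (Units.ext (by
      show chg h1' p (chg π1 p X0) = W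
      rw [chg_chg]
      exact (congrArg (fun k : R0 →ₐ[A] C => chg k p X0) (AlgHom.ext fun x => rfl)).trans hX))
    have hk2 : I2 ≤ RingHom.ker h1'.toRingHom := Ideal.span_le.2 fun x hx => by
      obtain ⟨j, rfl⟩ := hx
      show h1' (coord (φ' j) _) = 0
      rw [← chg_coord, map_sub, map_one]
      have e : chgU h1' (p + 1) (δu _ p b1 - chgU (Algebra.ofId A (R0 ⧸ I1)) (p + 1) z) = 0 := by
        rw [map_sub, chgU_δu, chgU_ofId, hb1, hw, sub_self]
      rw [show chg h1' (p + 1) ((Additive.toMul (δu _ p b1 - chgU (Algebra.ofId A (R0 ⧸ I1)) (p + 1) z) :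
        ((R0 ⧸ I1) ⊗[A] TT A B (p + 1))ˣ) : (R0 ⧸ I1) ⊗[A] TT A B (p + 1)) = 1 from
        congrArg (fun v : Additive (C ⊗[A] TT A B (p + 1))ˣ =>
          ((Additive.toMul v : (C ⊗[A] TT A B (p + 1))ˣ) : C ⊗[A] TT A B (p + 1))) e, sub_self, map_zero]
    let h2 : Y →ₐ[A] C := Ideal.Quotient.liftₐ I2 h1' fun x hx => hk2 hx
    refine ⟨h2, ?_, fun i => ?_, fun i => ?_⟩
    · refine Eq.trans ?_ hb1
      refine Additive.toMul.injective (Units.ext ?_)
      show chg h2 p (chg π2 p _) = chg h1' p _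
      rw [chg_chg]
      exact congrArg (fun k : (R0 ⧸ I1) →ₐ[A] C => chg k p _) (AlgHom.ext fun x => rfl)
    · show h0 (MvPolynomial.X (Sum.inl i)) = _
      exact hl0 i
    · show h0 (MvPolynomial.X (Sum.inr i)) = _
      exact hr0 i
  have hext : ∀ (C : Type u) [CommRing C] [Algebra A C] (f f' : Y →ₐ[A] C),
      (∀ k, f (π2 (π1 (MvPolynomial.X k))) = f' (π2 (π1 (MvPolynomial.X k)))) → f = f' := by
    intro C _ _ f f' h
    refine AlgHom.ext fun y => ?_
    obtain ⟨y, rfl⟩ := Ideal.Quotient.mk_surjective y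
    obtain ⟨y, rfl⟩ := Ideal.Quotient.mk_surjective y
    exact AlgHom.congr_fun (MvPolynomial.algHom_ext (f := (f.comp π2).comp π1) (g := (f'.comp π2).comp π1) h) y
  have hvar : ∀ i, π2 (π1 (MvPolynomial.X (Sum.inl i))) =
        coord (φ i) ((Additive.toMul b : (Y ⊗[A] TT A B p)ˣ) : Y ⊗[A] TT A B p) ∧
      π2 (π1 (MvPolynomial.X (Sum.inr i))) =
        coord (φ i) (((Additive.toMul b)⁻¹ : (Y ⊗[A] TT A B p)ˣ) : Y ⊗[A] TT A B p) := by
    intro i
    constructor
    · show π2 (π1 _) = coord (φ i) (chg π2 p (chg π1 p X0))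
      rw [chg_coord, chg_coord]
      exact congrArg π2 (sub_eq_zero.1 ((map_sub π1 _ _).symm.trans (h1 (Sum.inr (Sum.inl i)))))
    · show π2 (π1 _) = coord (φ i) (chg π2 p (chg π1 p Y0))
      rw [chg_coord, chg_coord]
      exact congrArg π2 (sub_eq_zero.1 ((map_sub π1 _ _).symm.trans (h1 (Sum.inr (Sum.inr i)))))
  have hfs : Algebra.FormallySmooth A Y := by
    refine Algebra.FormallySmooth.of_comp_surjective fun C _ _ I hI f => ?_
    let π := Ideal.Quotient.mkₐ A I
    obtain ⟨w, hw, hwv⟩ := exists_lift p I hI (chgU (Algebra.ofId A C) (p + 1) z) (hzC C) (chgU f p b) (by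
      rw [← chgU_δu, hb, chgU_ofId, chgU_ofId])
    obtain ⟨h, -, hl, hr⟩ := hrep C w hw
    refine ⟨h, hext _ _ _ fun k => ?_⟩
    rcases k with i | i
    · rw [AlgHom.comp_apply, hl, (hvar i).1, ← chg_coord, ← chg_coord]
      refine congrArg (coord (φ i)) ?_
      exact congrArg (fun v : Additive ((C ⧸ I) ⊗[A] TT A B p)ˣ =>
        ((Additive.toMul v : ((C ⧸ I) ⊗[A] TT A B p)ˣ) : (C ⧸ I) ⊗[A] TT A B p)) hwv
    · rw [AlgHom.comp_apply, hr, (hvar i).2, ← chg_coord, ← chg_coord]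
      refine congrArg (coord (φ i)) ?_
      exact congrArg (fun v : Additive ((C ⧸ I) ⊗[A] TT A B p)ˣ =>
        (((Additive.toMul v)⁻¹ : ((C ⧸ I) ⊗[A] TT A B p)ˣ) : (C ⧸ I) ⊗[A] TT A B p)) hwv
  refine ⟨Y, inferInstance, inferInstance, b, ⟨hfs, inferInstance⟩, hb, fun C _ _ w hw => ?_⟩
  obtain ⟨h, h1, -, -⟩ := hrep C w hw
  exact ⟨h, h1⟩

variable (A B) in
/-- Units congruent to one modulo an ideal of the base. -/
def IsOneMod (I : Ideal A) (p : ℕ) (w : (TT A B p)ˣ) : Prop :=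
  (w : TT A B p) - 1 ∈ I.map (algebraMap A (TT A B p))

/-- Cocycles congruent to one are coboundaries of units congruent to one. -/
theorem exists_solution_one_mod [Module.Finite A B] [Module.Projective A B] [Module.FaithfullyFlat A B]
    (I : Ideal A) [HenselianRing A I] (p : ℕ) (z : (TT A B (p + 1))ˣ) (hz1 : IsOneMod A B I (p + 1) z)
    (hz : ∑ i : Fin (p + 1 + 1), (-1 : ℤ) ^ (i : ℕ) •
      addUnits (d (p + 1) i).toRingHom (Additive.ofMul z) = 0) :
    ∃ w : (TT A B p)ˣ, IsOneMod A B I p w ∧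
      ∑ i : Fin (p + 1), (-1 : ℤ) ^ (i : ℕ) • addUnits (d p i).toRingHom (Additive.ofMul w) = Additive.ofMul z := by
  let e : ∀ m, A ⊗[A] TT A B m ≃ₐ[A] TT A B m := fun m => Algebra.TensorProduct.lid A (TT A B m)
  let up : ∀ m, Additive (TT A B m)ˣ →+ Additive (A ⊗[A] TT A B m)ˣ := fun m =>
    addUnits (e m).symm.toAlgHom.toRingHom
  let dn : ∀ m, Additive (A ⊗[A] TT A B m)ˣ →+ Additive (TT A B m)ˣ := fun m =>
    addUnits (e m).toAlgHom.toRingHom
  have hδ : ∀ m (x : Additive (TT A B m)ˣ), δu A m (up m x) =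
      up (m + 1) (∑ i : Fin (m + 1), (-1 : ℤ) ^ (i : ℕ) • addUnits (d m i).toRingHom x) := fun m x => by
    rw [δu_apply, map_sum]
    refine Finset.sum_congr rfl fun i _ => ?_
    rw [map_zsmul]
    refine congrArg _ (Additive.toMul.injective (Units.ext ?_))
    exact dC_tmul A m i 1 _
  have hdn : ∀ m (x : Additive (TT A B m)ˣ), dn m (up m x) = x := fun m x =>
    Additive.toMul.injective (Units.ext ((e m).apply_symm_apply _))
  obtain ⟨Y, _, _, b, hY, hb, hrep⟩ := exists_universal_solver p (up (p + 1) (Additive.ofMul z))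
    (by rw [hδ, hz, map_zero])
  obtain ⟨σ, hσ⟩ := hrep (A ⧸ I) 0 (by
    rw [map_zero]
    refine (Additive.toMul.injective (Units.ext ?_)).symm
    show chg (Algebra.ofId A (A ⧸ I)) (p + 1) ((1 : A) ⊗ₜ[A] (z : TT A B (p + 1))) = 1
    rw [← sub_eq_zero, chg, Algebra.TensorProduct.map_tmul, map_one, AlgHom.id_apply,
      Algebra.TensorProduct.one_def, ← TensorProduct.tmul_sub]
    have hI : ∀ x ∈ I.map (algebraMap A (TT A B (p + 1))), (1 : A ⧸ I) ⊗ₜ[A] x = 0 := fun x hx => by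
      refine Submodule.span_induction ?_ ?_ ?_ ?_ hx
      · rintro _ ⟨a, ha, rfl⟩
        rw [Algebra.algebraMap_eq_smul_one, TensorProduct.tmul_smul, TensorProduct.smul_tmul',
          show a • (1 : A ⧸ I) = 0 by
            rw [Algebra.smul_def, mul_one]; exact Ideal.Quotient.eq_zero_iff_mem.2 ha,
          TensorProduct.zero_tmul]
      · exact TensorProduct.tmul_zero _ _
      · intro x y _ _ hx hy; rw [TensorProduct.tmul_add, hx, hy, add_zero]
      · intro t x _ hx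
        rw [smul_eq_mul, show (1 : A ⧸ I) ⊗ₜ[A] (t * x) = (1 ⊗ₜ[A] t) * (1 ⊗ₜ[A] x) by simp, hx, mul_zero]
    exact hI _ hz1)
  obtain ⟨τ, hτ⟩ := Groth.L05.exists_algHom_lift_smooth I σ
  let w₀ := chgU τ p b
  refine ⟨Additive.toMul (dn p w₀), ?_, ?_⟩
  · have h1 : chgU (Ideal.Quotient.mkₐ A I) p w₀ = 0 := by
      refine Eq.trans (Additive.toMul.injective (Units.ext ?_)) hσ
      show chg (Ideal.Quotient.mkₐ A I) p (chg τ p _) = chg σ p _
      rw [chg_chg, hτ]
    have h2 := congrArg (fun v : Additive ((A ⧸ I) ⊗[A] TT A B p)ˣ =>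
      ((Additive.toMul v : ((A ⧸ I) ⊗[A] TT A B p)ˣ) : (A ⧸ I) ⊗[A] TT A B p)) h1
    obtain ⟨t, ht⟩ : ∃ t, (e p).symm t = ((Additive.toMul w₀ : (A ⊗[A] TT A B p)ˣ) : A ⊗[A] TT A B p) :=
      ⟨_, (e p).symm_apply_apply _⟩
    show (e p) _ - 1 ∈ _
    rw [← ht, AlgEquiv.apply_symm_apply]
    change chg (Ideal.Quotient.mkₐ A I) p _ = 1 at h2
    rw [← ht, show (e p).symm t = (1 : A) ⊗ₜ[A] t from rfl, chg, Algebra.TensorProduct.map_tmul, map_one,
      AlgHom.id_apply, Algebra.TensorProduct.one_def, ← sub_eq_zero, ← TensorProduct.tmul_sub] at h2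
    have h3 := congrArg (TensorProduct.quotTensorEquivQuotSMul (TT A B p) I) h2
    rw [map_zero] at h3
    have h4 := (TensorProduct.quotTensorEquivQuotSMul_mk_tmul I (1 : A) (t - 1)).symm.trans h3
    rw [one_smul, Submodule.Quotient.mk_eq_zero, Ideal.smul_top_eq_map] at h4
    exact h4
  · have h1 : δu A p w₀ = up (p + 1) (Additive.ofMul z) := by
      show δu A p (chgU τ p b) = _
      rw [← chgU_δu, hb]
      refine Additive.toMul.injective (Units.ext ?_)
      show chg τ (p + 1) (chg (Algebra.ofId A Y) (p + 1) _) = _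
      rw [chg_chg, Subsingleton.elim (τ.comp (Algebra.ofId A Y)) (AlgHom.id A A), chg,
        Algebra.TensorProduct.map_id]
      rfl
    refine (hdn (p + 1) _).symm.trans (Eq.trans ?_ (hdn (p + 1) _))
    rw [← h1, ← hδ, show Additive.ofMul (Additive.toMul (dn p w₀)) = dn p w₀ from rfl]
    refine congrArg _ ?_
    congr 1
    exact Additive.toMul.injective (Units.ext ((e p).symm_apply_apply _))

end Groth.L27.GmHensel
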